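import Cfsg.Agent.H892.HT.Rk
import Cfsg.Agent.H892.HT.ValF
import Cfsg.Agent.H892.HT.Disp
import Cfsg.Agent.H314.CY.PsuAct
import Cfsg.Agent.H314.CY.Comb
import Cfsg.Agent.H681.IP.Row

/-!
# S4933: `PSU_n(q)`, `p ∣ q + 1`: the rank 3 character of the eigenvalue `(-q)^(n-2) - 1` (helper892)

Its degree is `f = Q² (Q^n - 1) (Q^(n-3) - 1) / ((Q - 1) (Q² - 1))`, `Q = -q`; it is in the principal block, and
`v_p(f) = v_p(n) + v_p(n-3)`.
-/

set_option autoImplicit false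
set_option linter.unusedSectionVars false

open MulAction Matrix

namespace Cfsg.Agent.H892.HT

open Cfsg Cfsg.Agent.LieClassical.HermBasic Cfsg.Agent.LieClassical.HermSiegel
open Cfsg.Agent.H690.Spor.RankThree Cfsg.Agent.H690.Spor.RankThree.R3
open Cfsg.Agent.ClassicalGeometry.PSUAutBasic Cfsg.Agent.ClassicalGeometry
open Cfsg.Agent.H314.CY Cfsg.Agent.H314.CY.Psu Cfsg.Agent.H316.HT

variable {F : Type} [Field F] [Fintype F] {q n : ℕ}

/-- **the row from the rank 3 character**, up to the bound for the degree -/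
theorem row_psu_of_le (hF : Fintype.card F = q ^ 2) (hn : 4 ≤ n) {p : ℕ} [hp : Fact p.Prime] (hp2 : p ≠ 2)
    (hpq : p ∣ q + 1)
    (hle : ∀ f : ℕ, (f : ℤ) * ((-(q : ℤ) - 1) * ((-(q : ℤ)) ^ 2 - 1)) = (-(q : ℤ)) ^ 2 * ((-(q : ℤ)) ^ (n - 3) - 1) *
      ((-(q : ℤ)) ^ n - 1) → p ∣ f ∧ ∀ {A : Type} [Group A] [Finite A] (N : Subgroup A) [N.Normal] (_ : N ≃* PSU n F q)
      (P : Sylow p A) (a : ℕ), 0 < a → CD p a (P : Subgroup A) → f.factorization p ≤ a) : Row p (PSU n F q) := by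
  classical
  obtain ⟨m, rfl⟩ : ∃ m, n = m + 2 := ⟨n - 2, by omega⟩
  have hm : 2 ≤ m := by omega
  have hn3 : 3 ≤ m + 2 := by omega
  have hq2 := two_le hF
  obtain ⟨b, hb0, hb, hr3, x₁, y₁, hxy, hR, hcom⟩ := r3p (F := F) (m := m) hF hm hn3
  have : Finite (Pts hF hn3) := H769.CY.finite_X hr3
  have := Fintype.ofFinite (Pts hF hn3)
  obtain ⟨a, ha, hb', hpar⟩ := com_of_r3 hr3 hxy hR hcom
  -- the numbers
  obtain ⟨Q, hQ⟩ : ∃ Q : ℤ, Q = -(q : ℤ) := ⟨_, rfl⟩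
  rw [← hQ] at hle
  have hpQ : (p : ℤ) ∣ Q - 1 := by
    have h1 : (p : ℤ) ∣ (q : ℤ) + 1 := by exact_mod_cast Int.natCast_dvd_natCast.2 hpq
    rw [hQ]
    have h2 : -(q : ℤ) - 1 = -((q : ℤ) + 1) := by ring
    rw [h2]
    exact (dvd_neg).2 h1
  have hQ2 : Q ≤ -2 := by rw [hQ]; have : (2 : ℤ) ≤ q := by exact_mod_cast hq2
                          linarith
  obtain ⟨T, hT⟩ : ∃ T : ℤ, T = Q ^ (m - 1) := ⟨_, rfl⟩
  have hT1 : Q ^ m = Q * T := by
    rw [hT, ← pow_succ']; congr 1; omega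
  have hT0 : T ≠ 0 := by rw [hT]; exact pow_ne_zero _ (by omega)
  have hsg : (-1 : ℤ) ^ m * (-1) ^ m = 1 := by rw [← mul_pow]; simp
  have hqm : (q : ℤ) ^ m = (-1) ^ m * Q ^ m := by
    rw [hQ, ← mul_pow, neg_one_mul, neg_neg]
  have hqm1 : (q : ℤ) ^ (m - 1) = -(-1) ^ m * T := by
    have h1 : (-1 : ℤ) ^ m = (-1) * (-1) ^ (m - 1) := by rw [← pow_succ']; congr 1; omega
    have h2 : (q : ℤ) ^ (m - 1) = (-1) ^ (m - 1) * Q ^ (m - 1) := by
      rw [hQ, ← mul_pow, neg_one_mul, neg_neg]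
    rw [h2, h1, hT]
    ring
  have hqQ : (q : ℤ) ^ 2 = Q ^ 2 := by rw [hQ]; ring
  have hbQ : (Q ^ 2 - 1) * (b : ℤ) = -((Q * T - 1) * (T - 1)) := by
    rw [← hqQ, hb, hqm, hqm1, hT1]
    linear_combination (-((Q * T - 1) * (T - 1))) * hsg
  have hk : ((q ^ 2 * b : ℕ) : ℤ) = Q ^ 2 * b := by push_cast; rw [hqQ]
  have hl : ((q ^ (2 * m + 1) : ℕ) : ℤ) = -(Q ^ 3 * T ^ 2) := by
    push_cast
    have h1 : 2 * m + 1 = m + m + 1 := by ring
    rw [h1, pow_succ, pow_add, hqm, hT1]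
    have h2 : (q : ℤ) = -Q := by rw [hQ, neg_neg]
    rw [h2]
    linear_combination (-(Q ^ 3 * T ^ 2)) * hsg
  have hQ21 : Q ^ 2 - 1 ≠ 0 := by nlinarith
  have hpT : (p : ℤ) ∣ T - 1 := by
    rw [hT]
    have := sub_dvd_pow_sub_pow Q 1 (m - 1)
    rw [one_pow] at this
    exact hpQ.trans this
  have hpTm : (p : ℤ) ∣ Q * T - 1 := by
    rw [← hT1]
    have := sub_dvd_pow_sub_pow Q 1 m
    rw [one_pow] at this
    exact hpQ.trans this
  have hpQ1 : ¬ (p : ℤ) ∣ Q + 1 := by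
    intro h
    have h1 := dvd_sub h hpQ
    have h2 : Q + 1 - (Q - 1) = 2 := by ring
    rw [h2] at h1
    have h3 : p ∣ 2 := by exact_mod_cast h1
    exact hp2 ((Nat.prime_dvd_prime_iff_eq hp.out Nat.prime_two).1 h3)
  have hpZ : Prime (p : ℤ) := Nat.prime_iff_prime_int.1 hp.out
  have hpb : (p : ℤ) ∣ b := by
    obtain ⟨t, ht⟩ := sub_dvd_pow_sub_pow Q 1 (m - 1)
    rw [one_pow, ← hT] at ht
    have h1 : (Q + 1) * (b : ℤ) = -((Q * T - 1) * t) := by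
      apply mul_left_cancel₀ (show Q - 1 ≠ 0 by omega)
      linear_combination hbQ - (Q * T - 1) * ht
    have h2 : (p : ℤ) ∣ (Q + 1) * b := by
      rw [h1]
      exact (dvd_neg).2 (hpTm.mul_right _)
    exact (hpZ.dvd_or_dvd h2).resolve_left hpQ1
  have hQT : Q ∣ T := by
    rw [hT]
    exact dvd_pow_self _ (by omega)
  have hrs : Q * T - 1 ≠ T - 1 := by
    intro h
    have h1 : (Q - 1) * T = 0 := by linear_combination h
    rcases mul_eq_zero.1 h1 with h | h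
    · omega
    · exact hT0 h
  have hb0' : (b : ℤ) ≠ 0 := by exact_mod_cast hb0.ne'
  have h2 : (Q * T - 1) * (T - 1) = b - ((q ^ 2 * b : ℕ) : ℤ) := by
    rw [hk]
    linear_combination hbQ
  have h1 : (Q * T - 1) + (T - 1) = a - b := by
    have h3 : ((q ^ 2 * b : ℕ) : ℤ) * ((q ^ 2 * b : ℕ) : ℤ) = (q ^ 2 * b : ℕ) + ((q ^ 2 * b : ℕ) : ℤ) * a +
        ((q ^ (2 * m + 1) : ℕ) : ℤ) * b := by exact_mod_cast hpar
    rw [hk, hl] at h3
    apply mul_left_cancel₀ (mul_ne_zero (pow_ne_zero 2 (show Q ≠ 0 by omega)) hb0')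
    linear_combination h3 - (Q ^ 2 * b) * hbQ
  have hkl : q ^ 2 * b ≠ q ^ (2 * m + 1) := by
    intro h
    have h3 : Q ^ 2 * (b : ℤ) = -(Q ^ 3 * T ^ 2) := by rw [← hk, h, hl]
    have h4 : (b : ℤ) = -(Q * T ^ 2) := by
      apply mul_left_cancel₀ (pow_ne_zero 2 (show Q ≠ 0 by omega))
      linear_combination h3
    rw [h4] at hbQ
    obtain ⟨T', hT'⟩ := hQT
    have h5 : Q ∣ 1 := by
      refine ⟨(Q ^ 2 - 1) * T ^ 2 - T ^ 2 + T + T', ?_⟩
      linear_combination hbQ + hT'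
    have := Int.isUnit_iff.1 (isUnit_of_dvd_one h5)
    omega
  have hk1 : 1 < q ^ 2 * b := by
    have : 4 ≤ q ^ 2 := by nlinarith
    nlinarith
  have hl1 : 1 < q ^ (2 * m + 1) := Nat.one_lt_pow (by omega) (by omega)
  obtain ⟨-, f, -, -, -, hf⟩ := H968.Imc.exists_irr_int hr3 (H769.CY.hab_of hr3 ha hb') hrs h1 h2
  have hfe : (f : ℤ) * ((Q - 1) * (Q ^ 2 - 1)) = Q ^ 2 * (Q ^ (m + 2 - 3) - 1) * (Q ^ (m + 2) - 1) := by
    have e1 : m + 2 - 3 = m - 1 := by omega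
    have e2 : Q ^ (m + 2) = Q ^ 3 * T := by
      rw [pow_add, hT1]; ring
    rw [e1, ← hT, e2]
    rw [hk, hl] at hf
    apply mul_left_cancel₀ hT0
    linear_combination (Q ^ 2 - 1) * hf - (T * Q ^ 2) * hbQ
  obtain ⟨hpf, hle'⟩ := hle f hfe
  have hpow : ∀ j : ℕ, j ≠ 0 → Q ^ j - 1 ≠ 0 := by
    intro j hj h
    have h3 : Q ∣ 1 := by
      have h4 : Q ^ j = 1 := by linarith
      rw [← h4]
      exact dvd_pow_self Q hj
    have := Int.isUnit_iff.1 (isUnit_of_dvd_one h3)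
    omega
  have hf0 : f ≠ 0 := by
    rintro rfl
    rw [Nat.cast_zero, zero_mul] at hfe
    rcases mul_eq_zero.1 hfe.symm with h | h
    · rcases mul_eq_zero.1 h with h | h
      · exact absurd h (pow_ne_zero 2 (by omega))
      · exact hpow _ (by omega) h
    · exact hpow _ (by omega) h
  exact row_of_r3 hr3 hkl (inj_of_r3 hr3 hk1 hl1) ha hb' hrs h1 h2 hf (by
      rw [hk]
      exact dvd_sub hpTm (hpb.mul_left _)) (by
      rw [hl]
      have h3 : (p : ℤ) ∣ Q ^ (m + 1) - 1 := by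
        have := sub_dvd_pow_sub_pow Q 1 (m + 1)
        rw [one_pow] at this
        exact hpQ.trans this
      have h4 : Q ^ (m + 1) = Q ^ 2 * T := by rw [pow_succ, hT1]; ring
      rw [h4] at h3
      have h5 : 1 + (Q * T - 1) + -(Q ^ 3 * T ^ 2) = -(Q * T) * (Q ^ 2 * T - 1) := by ring
      rw [h5]
      exact h3.mul_left _)
    (hst hF hn3 (by rintro ⟨h, -⟩; omega)) hpf hf0 hle'

/-- **`PSU_n(q)`, `p ∣ q + 1`**: valuation one -/
theorem row_psu_one (hF : Fintype.card F = q ^ 2) (hn : 4 ≤ n) {p : ℕ} [hp : Fact p.Prime] (hp2 : p ≠ 2)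
    (hpq : p ∣ q + 1) (h1 : emultiplicity p n + emultiplicity p (n - 3) = 1) : Row p (PSU n F q) := by
  refine row_psu_of_le hF hn hp2 hpq fun f hf => ?_
  have hq2 : (2 : ℤ) ≤ q := by exact_mod_cast two_le hF
  have hpQ : (p : ℤ) ∣ -(q : ℤ) - 1 := by
    have h1 : (p : ℤ) ∣ (q : ℤ) + 1 := by exact_mod_cast Int.natCast_dvd_natCast.2 hpq
    have h2 : -(q : ℤ) - 1 = -((q : ℤ) + 1) := by ring
    rw [h2]
    exact (dvd_neg).2 h1
  have h2 := val_f hp2 (Q := -(q : ℤ)) (by linarith) hpQ hf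
  rw [h1] at h2
  have h3 := factorization_eq (c := 1) hp.out (by rw [h2]; rfl)
  refine ⟨?_, fun N _ _ P a ha _ => by rw [h3]; exact ha⟩
  by_contra h4
  rw [Nat.factorization_eq_zero_of_not_dvd h4] at h3
  omega

/-- **`PSU_6(q)`, `3 ∣ q + 1`**, two commuting nonabelian pairs -/
theorem row_psu_six (hF : Fintype.card F = q ^ 2) (hpq : 3 ∣ q + 1) {Y : Type} [Group Y] (g : Y →* PSU 6 F q)
    (hg : Function.Injective g) (hY : IsPGroup 3 Y) {x₁ y₁ x₂ y₂ : Y} (h1 : x₁ * y₁ ≠ y₁ * x₁)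
    (h2 : x₂ * y₂ ≠ y₂ * x₂) (c1 : Commute x₁ x₂) (c2 : Commute x₁ y₂) (c3 : Commute y₁ x₂)
    (c4 : Commute y₁ y₂) : Row 3 (PSU 6 F q) := by
  have : Fact (Nat.Prime 3) := ⟨Nat.prime_three⟩
  refine row_psu_of_le hF (by norm_num) (by norm_num) hpq fun f hf => ?_
  have hq2 : (2 : ℤ) ≤ q := by exact_mod_cast two_le hF
  have hpQ : ((3 : ℕ) : ℤ) ∣ -(q : ℤ) - 1 := by
    have h1 : ((3 : ℕ) : ℤ) ∣ (q : ℤ) + 1 := by exact_mod_cast Int.natCast_dvd_natCast.2 hpq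
    have h2 : -(q : ℤ) - 1 = -((q : ℤ) + 1) := by ring
    rw [h2]
    exact (dvd_neg).2 h1
  have h3 := val_f (by norm_num) (Q := -(q : ℤ)) (by linarith) hpQ hf
  have e1 : emultiplicity 3 6 = 1 := by
    rw [show (1 : ℕ∞) = ((1 : ℕ) : ℕ∞) from rfl, emultiplicity_eq_coe]
    decide
  have e2 : emultiplicity 3 (6 - 3) = 1 := by
    rw [show (1 : ℕ∞) = ((1 : ℕ) : ℕ∞) from rfl, emultiplicity_eq_coe]
    decide
  rw [e1, e2] at h3
  have h4 := factorization_eq (c := 2) Nat.prime_three (by rw [h3]; rfl)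
  refine ⟨?_, fun N _ e P a ha hcd => ?_⟩
  · by_contra h5
    rw [Nat.factorization_eq_zero_of_not_dvd h5] at h4
    omega
  · rw [h4]
    by_contra h5
    obtain rfl : a = 1 := by omega
    obtain ⟨i, hi⟩ := H681.IP.exists_hom P (N.subtype.comp (e.symm.toMonoidHom.comp g))
      (fun a b hab => hg (e.symm.injective (Subtype.val_injective hab))) hY
    exact (H681.IP.TD.of_CD hcd).false_of_pairs Nat.prime_three P.isPGroup' (x₁ := i x₁) (y₁ := i y₁) (x₂ := i x₂)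
      (y₂ := i y₂) (fun h => h1 (hi (by rw [map_mul, map_mul]; exact h)))
      (fun h => h2 (hi (by rw [map_mul, map_mul]; exact h))) (c1.map i) (c2.map i) (c3.map i) (c4.map i)

end Cfsg.Agent.H892.HT
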