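import Cfsg.Agent.H892.HT.Grid
import Cfsg.Agent.H892.HT.DiagPsu

/-!
# S4933, the field `psu_diag` of `OddRows`: `PSU_n(q)`, `p ∣ q + 1`, `p ∣ n` (helper892)

* `row_psu_grid` : `n ≥ p ^ 2` (vacuous);
* `row_psu_six'` : `n = 6`, `p = 3`;
* `psu_diag_of` : the field, from the case `n = p = 3`.
-/

set_option autoImplicit false
set_option linter.unusedSectionVars false
set_option linter.unusedSimpArgs false

open Matrix Equiv Equiv.Perm Subgroup
open scoped commutatorElement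

namespace Cfsg.Agent.H892.HT

open Cfsg Cfsg.Agent.H751 Cfsg.Agent.H316.HT

section Zeta

variable {F : Type} [Field F] [Fintype F] {q p : ℕ}

/-- a root of unity of order `p` in `GU_1(q)` -/
theorem exists_zeta (hF : Fintype.card F = q ^ 2) (hp : p.Prime) (hpq : p ∣ q + 1) :
    ∃ z : Fˣ, orderOf z = p := by
  have : Fact p.Prime := ⟨hp⟩
  have h1 : p ∣ Nat.card Fˣ := by
    rw [Nat.card_units, Nat.card_eq_fintype_card, hF]
    have h2 : q ^ 2 - 1 = (q + 1) * (q - 1) := by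
      have := Nat.sq_sub_sq q 1
      rwa [one_pow] at this
    rw [h2]
    exact hpq.mul_right _
  exact exists_prime_orderOf_dvd_card' p h1

end Zeta

section Rows

variable {F : Type} [Field F] [Fintype F] {q p : ℕ}

theorem zeta_pow {z : Fˣ} (hz : orderOf z = p) (c : zpowers z) : c ^ p = 1 := by
  obtain ⟨c, k, rfl⟩ := c
  apply Subtype.ext
  show (z ^ k) ^ p = 1
  rw [← zpow_natCast, ← _root_.zpow_mul, mul_comm, _root_.zpow_mul, zpow_natCast, ← hz, pow_orderOf_eq_one,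
    _root_.one_zpow]

theorem zeta_pow' {z : Fˣ} (hz : orderOf z = p) (hpq : p ∣ q + 1) (c : zpowers z) :
    (zpowers z).subtype c ^ (q + 1) = 1 := by
  obtain ⟨t, ht⟩ := hpq
  rw [ht, ← map_pow, pow_mul, zeta_pow hz, one_pow, map_one]

/-- **`n ≥ p ^ 2`** -/
theorem row_psu_grid (hF : Fintype.card F = q ^ 2) (hp : p.Prime) (hp2 : p ≠ 2) (hpq : p ∣ q + 1) {n : ℕ}
    (hn : p * p ≤ n) : Row p (PSU n F q) := by
  have : Fact p.Prime := ⟨hp⟩
  have hp3 : 3 ≤ p := by have := hp.two_le; omega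
  have : Fact (1 < p) := ⟨by omega⟩
  obtain ⟨k, rfl⟩ : ∃ k, n = p * p + k := ⟨n - p * p, by omega⟩
  obtain ⟨ζ, hζ⟩ := exists_zeta hF hp hpq
  have hζ1 : ζ ≠ 1 := by
    rintro rfl
    rw [orderOf_one] at hζ
    omega
  let e : Fin (p * p + k) ≃ (ZMod p × ZMod p) ⊕ Fin k :=
    finSumFinEquiv.symm.trans (Equiv.sumCongr (finProdFinEquiv.symm.trans
      (Equiv.prodCongr (ZMod.finEquiv p).toEquiv (ZMod.finEquiv p).toEquiv)) (Equiv.refl _))
  let P : Subgroup (Perm ((ZMod p × ZMod p) ⊕ Fin k)) := (P0 p).map (ext1 _ _)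
  have hP : IsPGroup p P := (isPGroup_P0 p).map _
  let χ : zpowers ζ →* Fˣ := (zpowers ζ).subtype
  have hχ : ∀ c, χ c ^ (q + 1) = 1 := zeta_pow' hζ hpq
  let f : XX χ P →* PSU (p * p + k) F q := toPSU hF hχ P e
  have hodd : Odd p := hp.odd_of_ne_two hp2
  have hX : IsPGroup p (XX χ P) := isPGroup_XX (zeta_pow hζ) hP
  let c : zpowers ζ := ⟨ζ, mem_zpowers ζ⟩
  let u : (ZMod p × ZMod p) ⊕ Fin k → zpowers ζ :=
    Pi.mulSingle (Sum.inl (0, 0)) c * (Pi.mulSingle (Sum.inl (1, 0)) c)⁻¹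
  have hu : ∏ i, u i = 1 := by
    simp only [u, Pi.mul_apply, Pi.inv_apply, Finset.prod_mul_distrib, Finset.prod_inv_distrib]
    rw [Finset.prod_pi_mulSingle', Finset.prod_pi_mulSingle', if_pos (Finset.mem_univ _),
      if_pos (Finset.mem_univ _), mul_inv_cancel]
  let x : XX χ P := ⟨SemidirectProduct.inr (ext1 _ _ (sx p)), inr_mem hodd hP (mem_map_of_mem _ (sx_mem p))⟩
  let y : XX χ P := ⟨SemidirectProduct.inr (ext1 _ _ (sy p)), inr_mem hodd hP (mem_map_of_mem _ (sy_mem p))⟩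
  let z : XX χ P := ⟨SemidirectProduct.inr (ext1 _ _ (sz p)), inr_mem hodd hP (mem_map_of_mem _ (sz_mem p))⟩
  let d : XX χ P := ⟨SemidirectProduct.inl u, inl_mem hu⟩
  have hxy : ⁅x, y⁆ = z := by
    apply Subtype.ext
    show ⁅(SemidirectProduct.inr (ext1 _ _ (sx p)) : MonGp ((ZMod p × ZMod p) ⊕ Fin k) (zpowers ζ)),
      (SemidirectProduct.inr (ext1 _ _ (sy p)) : MonGp ((ZMod p × ZMod p) ⊕ Fin k) (zpowers ζ))⁆ = _
    rw [← map_commutatorElement, ← map_commutatorElement, comm_sx_sy]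
  have hX' : IsPGroup p f.range := hX.of_surjective f.rangeRestrict f.rangeRestrict_surjective
  refine H681.IP.row_of_derived_mem hp f.range hX' (x := f x) (y := f y) (z := f z) (t := f d) ⟨x, rfl⟩ ⟨y, rfl⟩
    ⟨z, rfl⟩ ⟨d, rfl⟩ fun hc => ?_
  rw [← map_commutatorElement, ← map_commutatorElement, hxy, ← commutatorElement_eq_one_iff_commute,
    ← map_commutatorElement] at hc
  obtain ⟨a, ha⟩ := of_toPSU_eq_one hF hχ (by nlinarith) hc
  have hv : ∀ i, monMat χ (⁅z, ⁅z, d⁆⁆ : XX χ P).1 i i =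
      ((χ (u ((ext1 _ _ (sz p))⁻¹ ((ext1 _ _ (sz p))⁻¹ i)) * (u ((ext1 _ _ (sz p))⁻¹ i))⁻¹ *
        (u ((ext1 _ _ (sz p))⁻¹ i) * (u i)⁻¹)⁻¹) : Fˣ) : F) := by
    intro i
    have h1 : (⁅z, ⁅z, d⁆⁆ : XX χ P).1 = ⁅(SemidirectProduct.inr (ext1 _ _ (sz p)) :
      MonGp ((ZMod p × ZMod p) ⊕ Fin k) (zpowers ζ)), ⁅(SemidirectProduct.inr (ext1 _ _ (sz p)) :
      MonGp ((ZMod p × ZMod p) ⊕ Fin k) (zpowers ζ)), (SemidirectProduct.inl u :
      MonGp ((ZMod p × ZMod p) ⊕ Fin k) (zpowers ζ))⁆⁆ := rfl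
    rw [h1, comm_inr_inl, comm_inr_inl, monMat_inl, diagonal_apply_eq]
  have hinv : ∀ a b : ZMod p, (ext1 (ZMod p × ZMod p) (Fin k) (sz p))⁻¹ (Sum.inl (a, b)) = Sum.inl (a, b - 1) := by
    intro a b
    rw [Perm.inv_eq_iff_eq, ext1_inl]
    simp [sz]
  have huv : ∀ a b : ZMod p, u (Sum.inl (a, b)) = (if (a, b) = (0, 0) then c else 1) *
      (if (a, b) = (1, 0) then c else 1)⁻¹ := by
    intro a b
    simp only [u, Pi.mul_apply, Pi.inv_apply, Pi.mulSingle_apply, Sum.inl.injEq]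
  have n1 : (-1 : ZMod p) ≠ 0 := by
    rw [neg_ne_zero]
    exact one_ne_zero
  have n2 : (2 : ZMod p) ≠ 0 := by
    intro h
    have h1 : ((2 : ℕ) : ZMod p) = 0 := by exact_mod_cast h
    rw [ZMod.natCast_eq_zero_iff] at h1
    have := Nat.le_of_dvd (by norm_num) h1
    omega
  have n3 : (0 : ZMod p) - 1 - 1 ≠ 0 := by
    intro h
    apply n2
    linear_combination -h
  have n4 : (2 : ZMod p) ≠ 1 := by
    intro h
    apply one_ne_zero (α := ZMod p)
    linear_combination h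
  have e1 := hv (Sum.inl (0, 0))
  have e2 := hv (Sum.inl (2, 0))
  rw [ha, hinv, hinv] at e1 e2
  simp only [huv, Prod.mk.injEq, zero_sub] at e1 e2
  have n0 : (0 : ZMod p) ≠ 1 := zero_ne_one
  have n5 : (-1 : ZMod p) - 1 ≠ 0 := by rwa [zero_sub] at n3
  simp only [n1, n2, n4, n5, n0, and_false, false_and, and_true, true_and, if_true, if_false, inv_one, mul_one,
    one_mul, and_self] at e1 e2
  rw [e2] at e1
  apply hζ1
  simp only [map_one, inv_inv] at e1
  exact (Units.ext e1).symm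

/-- `GU_1 wr A_3` in `PSU_6`: the permutations of the grid `3 × 2` -/
def P6 : Subgroup (Perm (ZMod 3 × Fin 2)) where
  carrier := {σ | ∃ f : Fin 2 → ZMod 3, ∀ a b, σ (a, b) = (a + f b, b)}
  mul_mem' := by
    rintro σ τ ⟨f, h⟩ ⟨f', h'⟩
    refine ⟨f' + f, fun a b => ?_⟩
    rw [Perm.mul_apply, h', h]
    ext
    · simp only [Pi.add_apply]; ring
    · rfl
  one_mem' := ⟨0, fun a b => by simp⟩
  inv_mem' := by
    rintro σ ⟨f, h⟩
    refine ⟨-f, fun a b => ?_⟩
    rw [Perm.inv_eq_iff_eq, h]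
    ext
    · simp only [Pi.neg_apply]; ring
    · rfl

theorem isPGroup_P6 : IsPGroup 3 P6 := by
  rintro ⟨σ, f, h⟩
  refine ⟨1, Subtype.ext ?_⟩
  show σ ^ 3 ^ 1 = 1
  have h3 : ∀ (k : ℕ) (a : ZMod 3) (b : Fin 2), (σ ^ k) (a, b) = (a + k * f b, b) := by
    intro k
    induction k with
    | zero => intro a b; simp
    | succ k ih =>
      intro a b
      rw [pow_succ, Perm.mul_apply, h, ih]
      ext
      · push_cast
        ring
      · rfl
  ext ⟨a, b⟩ : 1
  rw [pow_one, h3]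
  have : ((3 : ℕ) : ZMod 3) = 0 := by decide
  rw [this]
  simp

/-- the rotation of the block `j` -/
def rot (j : Fin 2) : Perm (ZMod 3 × Fin 2) where
  toFun x := (x.1 + (if x.2 = j then 1 else 0), x.2)
  invFun x := (x.1 - (if x.2 = j then 1 else 0), x.2)
  left_inv x := by ext <;> simp
  right_inv x := by ext <;> simp

theorem rot_mem (j : Fin 2) : rot j ∈ P6 := ⟨fun b => if b = j then 1 else 0, fun _ _ => rfl⟩

theorem rot_comm : Commute (rot 0) (rot 1) := by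
  ext ⟨a, b⟩
  · show a + (if b = 1 then 1 else 0) + (if b = 0 then 1 else 0) =
      a + (if b = 0 then 1 else 0) + (if b = 1 then 1 else 0)
    ring
  · rfl

/-- **`PSU_6(q)`, `3 ∣ q + 1`** -/
theorem row_psu_six' (hF : Fintype.card F = q ^ 2) (hpq : 3 ∣ q + 1) : Row 3 (PSU 6 F q) := by
  obtain ⟨ζ, hζ⟩ := exists_zeta hF Nat.prime_three hpq
  have hζ1 : ζ ≠ 1 := by
    rintro rfl
    rw [orderOf_one] at hζ
    omega
  let e : Fin 6 ≃ ZMod 3 × Fin 2 := (finProdFinEquiv : Fin 3 × Fin 2 ≃ Fin (3 * 2)).symm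
  let χ : zpowers ζ →* Fˣ := (zpowers ζ).subtype
  have hχ : ∀ c, χ c ^ (q + 1) = 1 := zeta_pow' hζ hpq
  let f : XX χ P6 →* PSU 6 F q := toPSU hF hχ P6 e
  have hX : IsPGroup 3 (XX χ P6) := isPGroup_XX (zeta_pow hζ) isPGroup_P6
  let c : zpowers ζ := ⟨ζ, mem_zpowers ζ⟩
  have hc3 : c ^ 3 = 1 := zeta_pow hζ c
  let u : Fin 2 → ZMod 3 × Fin 2 → zpowers ζ := fun j x => if x.2 = j then c ^ x.1.val else 1
  have hu : ∀ j, ∏ i, u j i = 1 := by
    intro j
    rw [Fintype.prod_prod_type]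
    have h1 : ∀ a : ZMod 3, ∏ b, u j (a, b) = c ^ a.val := by
      intro a
      show (∏ b : Fin 2, if b = j then c ^ a.val else 1) = c ^ a.val
      rw [Finset.prod_ite_eq' Finset.univ j, if_pos (Finset.mem_univ _)]
    rw [Finset.prod_congr rfl fun a _ => h1 a]
    show ∏ a : Fin 3, c ^ ZMod.val (n := 3) a = 1
    rw [Fin.prod_univ_three]
    show c ^ 0 * c ^ 1 * c ^ 2 = 1
    rw [← pow_add, ← pow_add]
    exact hc3
  let x : Fin 2 → XX χ P6 := fun j => ⟨SemidirectProduct.inl (u j), inl_mem (hu j)⟩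
  let y : Fin 2 → XX χ P6 := fun j => ⟨SemidirectProduct.inr (rot j), inr_mem (by decide) isPGroup_P6 (rot_mem j)⟩
  have hX' : IsPGroup 3 f.range := hX.of_surjective f.rangeRestrict f.rangeRestrict_surjective
  have hinv : ∀ j a b, (rot j)⁻¹ (a, b) = (a - (if b = j then 1 else 0), b) := fun j a b => rfl
  have hyx : ∀ j k, (⁅y j, x k⁆ : XX χ P6).1 = SemidirectProduct.inl
      (fun i => u k ((rot j)⁻¹ i) * (u k i)⁻¹) := fun j k => comm_inr_inl (rot j) (u k)
  have hne : ∀ j, f (⁅y j, x j⁆) ≠ 1 := by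
    intro j h
    obtain ⟨a, ha⟩ := of_toPSU_eq_one hF hχ (by norm_num) h
    have hv : ∀ b, ((χ (u j ((rot j)⁻¹ (1, b)) * (u j (1, b))⁻¹) : Fˣ) : F) = a := by
      intro b
      rw [← ha (1, b), hyx, monMat_inl, diagonal_apply_eq]
    have e1 := hv j
    have e2 := hv (j + 1)
    have hj : j + 1 ≠ j := by fin_cases j <;> decide
    rw [hinv] at e1 e2
    have v0 : ZMod.val (n := 3) 0 = 0 := rfl
    have v1 : ZMod.val (n := 3) 1 = 1 := rfl
    simp only [u, if_pos, sub_self, v0, v1, pow_zero, pow_one, one_mul] at e1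
    simp only [u, if_neg hj, inv_one, mul_one, map_one, Units.val_one] at e2
    rw [← e2] at e1
    apply hζ1
    rw [Units.val_eq_one, map_inv, inv_eq_one] at e1
    exact e1
  have hxx : Commute (x 0) (x 1) := by
    apply Subtype.ext
    show (SemidirectProduct.inl (u 0) * SemidirectProduct.inl (u 1) : MonGp _ _) =
      SemidirectProduct.inl (u 1) * SemidirectProduct.inl (u 0)
    rw [← map_mul, ← map_mul, mul_comm]
  have hyy : Commute (y 0) (y 1) := by
    apply Subtype.ext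
    show (SemidirectProduct.inr (rot 0) * SemidirectProduct.inr (rot 1) : MonGp _ _) =
      SemidirectProduct.inr (rot 1) * SemidirectProduct.inr (rot 0)
    rw [← map_mul, ← map_mul, rot_comm.eq]
  have hyx' : ∀ j k, j ≠ k → Commute (y j) (x k) := by
    intro j k hjk
    rw [← commutatorElement_eq_one_iff_commute]
    apply Subtype.ext
    rw [hyx]
    show SemidirectProduct.inl (fun i => u k ((rot j)⁻¹ i) * (u k i)⁻¹) = (1 : MonGp _ _)
    have : (fun i => u k ((rot j)⁻¹ i) * (u k i)⁻¹) = 1 := by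
      funext ⟨a, b⟩
      rw [hinv]
      by_cases hb : b = k
      · subst hb
        rw [if_neg (Ne.symm hjk), sub_zero, mul_inv_cancel]
        rfl
      · simp only [u, if_neg hb, inv_one, mul_one]
        rfl
    rw [this, map_one]
  have hn' : ∀ j, f (x j) * f (y j) ≠ f (y j) * f (x j) := by
    intro j h
    apply hne j
    rw [map_commutatorElement, commutatorElement_eq_one_iff_mul_comm]
    exact h.symm
  exact row_psu_six hF hpq f.range.subtype f.range.subtype_injective hX'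
    (x₁ := ⟨f (x 0), x 0, rfl⟩) (y₁ := ⟨f (y 0), y 0, rfl⟩) (x₂ := ⟨f (x 1), x 1, rfl⟩)
    (y₂ := ⟨f (y 1), y 1, rfl⟩) (fun h => hn' 0 (congrArg Subtype.val h)) (fun h => hn' 1 (congrArg Subtype.val h))
    (Subtype.ext (hxx.map f).eq) (Subtype.ext ((hyx' 1 0 (by decide)).symm.map f).eq)
    (Subtype.ext ((hyx' 0 1 (by decide)).map f).eq) (Subtype.ext (hyy.map f).eq)

/-- **the field `psu_diag` without `n = p = 3`** -/
theorem psu_diag_ne (hF : Fintype.card F = q ^ 2) (hp : p.Prime) (hp2 : p ≠ 2) {n : ℕ} (hn : 3 ≤ n)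
    (hpq : p ∣ q + 1) (hpn : p ∣ n) (h3 : ¬ (n = 3 ∧ p = 3)) : Row p (PSU n F q) := by
  have : Fact p.Prime := ⟨hp⟩
  have hp3 : 3 ≤ p := by have := hp.two_le; omega
  rcases le_or_gt (p * p) n with h | h
  · exact row_psu_grid hF hp hp2 hpq h
  obtain ⟨t, rfl⟩ := hpn
  have ht0 : t ≠ 0 := by
    rintro rfl
    omega
  have htp : t < p := by
    by_contra h1
    have := Nat.mul_le_mul_left p (not_lt.1 h1)
    omega
  have htd : ¬ p ∣ t := fun h1 => by
    have := Nat.le_of_dvd (Nat.pos_of_ne_zero ht0) h1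
    omega
  by_cases hp5 : p = 3
  · subst hp5
    obtain rfl : t = 2 := by
      have : t ≠ 1 := by
        rintro rfl
        exact h3 ⟨rfl, rfl⟩
      omega
    exact row_psu_six' hF hpq
  · have e1 : emultiplicity p (p * t) = 1 := by
      rw [emultiplicity_mul hp.prime, emultiplicity_eq_zero.2 htd, add_zero]
      have h1 : FiniteMultiplicity p p := Nat.finiteMultiplicity_iff.2 ⟨hp.ne_one, hp.pos⟩
      exact h1.emultiplicity_self
    have e2 : emultiplicity p (p * t - 3) = 0 := by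
      rw [emultiplicity_eq_zero]
      intro h1
      have h2 : p ∣ 3 := by
        have h4 : p ∣ p * t - (p * t - 3) := Nat.dvd_sub (Dvd.intro _ rfl) h1
        have h5 : p * t - (p * t - 3) = 3 := by omega
        rwa [h5] at h4
      exact hp5 ((Nat.prime_dvd_prime_iff_eq hp Nat.prime_three).1 h2)
    have hn4 : 4 ≤ p * t := by
      have : p ≤ p * t := Nat.le_mul_of_pos_right p (Nat.pos_of_ne_zero ht0)
      omega
    exact row_psu_one hF hn4 hp2 hpq (by rw [e1, e2, add_zero])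

end Rows

/-- **the field `psu_diag` of `OddRows`**, from the case `n = p = 3` -/
theorem psu_diag_of (h33 : ∀ (F : Type) [Field F] [Fintype F] (q : ℕ) [IsSimpleGroup (PSU 3 F q)],
      Fintype.card F = q ^ 2 → 3 ∣ q + 1 → ¬ Ab 3 (PSU 3 F q) → Row 3 (PSU 3 F q))
    (p : ℕ) [hp : Fact p.Prime] (F : Type) [Field F] [Fintype F] (n q : ℕ) [hs : IsSimpleGroup (PSU n F q)]
    (hp2 : p ≠ 2) (hn : 3 ≤ n) (hF : Fintype.card F = q ^ 2) (_ : ¬ p ∣ q) (hpq : p ∣ q + 1) (hpn : p ∣ n)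
    (hab : ¬ Ab p (PSU n F q)) : Row p (PSU n F q) := by
  by_cases h3 : n = 3 ∧ p = 3
  · obtain ⟨rfl, rfl⟩ := h3
    exact h33 F q hF hpq hab
  · exact psu_diag_ne hF hp.out hp2 hn hpq hpn h3

end Cfsg.Agent.H892.HT
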