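import Cfsg.Agent.H892.HT.Diag

/-!
# Two commuting nonabelian pairs in a `p`-subgroup of `PSU_n(q)`, `p ∣ q + 1`, `n ≥ 2 p` (helper892)
-/

set_option autoImplicit false
set_option linter.unusedSectionVars false
set_option linter.unusedSimpArgs false

open Matrix Equiv Equiv.Perm Subgroup
open scoped commutatorElement

namespace Cfsg.Agent.H892.HT

open Cfsg Cfsg.Agent.H751 Cfsg.Agent.H316.HT

section PB

variable (p : ℕ) [hp : Fact p.Prime]

/-- the permutations of the grid `p × 2` which rotate the columns -/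
def PB : Subgroup (Perm (ZMod p × Fin 2)) where
  carrier := {σ | ∃ f : Fin 2 → ZMod p, ∀ a b, σ (a, b) = (a + f b, b)}
  mul_mem' := by
    rintro σ τ ⟨f, h⟩ ⟨f', h'⟩
    refine ⟨f' + f, fun a b => ?_⟩
    rw [Perm.mul_apply, h', h]
    ext
    · simp only [Pi.add_apply]; ring
    · rfl
  one_mem' := ⟨0, fun a b => by simp⟩
  inv_mem' := by
    rintro σ ⟨f, h⟩
    refine ⟨-f, fun a b => ?_⟩
    rw [Perm.inv_eq_iff_eq, h]
    ext
    · simp only [Pi.neg_apply]; ring
    · rfl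

theorem isPGroup_PB : IsPGroup p (PB p) := by
  rintro ⟨σ, f, h⟩
  refine ⟨1, Subtype.ext ?_⟩
  show σ ^ p ^ 1 = 1
  have h3 : ∀ (k : ℕ) (a : ZMod p) (b : Fin 2), (σ ^ k) (a, b) = (a + k * f b, b) := by
    intro k
    induction k with
    | zero => intro a b; simp
    | succ k ih =>
      intro a b
      rw [pow_succ, Perm.mul_apply, h, ih]
      ext
      · push_cast
        ring
      · rfl
  ext ⟨a, b⟩ : 1
  rw [pow_one, h3]
  simp

/-- the rotation of the column `j` -/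
def rotp (j : Fin 2) : Perm (ZMod p × Fin 2) where
  toFun x := (x.1 + (if x.2 = j then 1 else 0), x.2)
  invFun x := (x.1 - (if x.2 = j then 1 else 0), x.2)
  left_inv x := by ext <;> simp
  right_inv x := by ext <;> simp

theorem rotp_mem (j : Fin 2) : rotp p j ∈ PB p := ⟨fun b => if b = j then 1 else 0, fun _ _ => rfl⟩

theorem rotp_comm : Commute (rotp p 0) (rotp p 1) := by
  ext ⟨a, b⟩ : 1
  refine Prod.ext ?_ rfl
  show a + (if b = 1 then 1 else 0) + (if b = 0 then 1 else 0) =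
    a + (if b = 0 then 1 else 0) + (if b = 1 then 1 else 0)
  ring

end PB

variable {F : Type} [Field F] [Fintype F] {q p : ℕ}

/-- **two commuting nonabelian pairs** -/
theorem pairs_psu [hp : Fact p.Prime] {n : ℕ} (hF : Fintype.card F = q ^ 2) (h2 : p ≠ 2) (hpq : p ∣ q + 1)
    (hn : 2 * p ≤ n) : ∃ X : Subgroup (PSU n F q), IsPGroup p X ∧ ∃ x₁ ∈ X, ∃ y₁ ∈ X, ∃ x₂ ∈ X, ∃ y₂ ∈ X,
      x₁ * y₁ ≠ y₁ * x₁ ∧ x₂ * y₂ ≠ y₂ * x₂ ∧ Commute x₁ x₂ ∧ Commute x₁ y₂ ∧ Commute y₁ x₂ ∧ Commute y₁ y₂ := by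
  have hp3 : 3 ≤ p := by have := hp.out.two_le; omega
  have : Fact (1 < p) := ⟨by omega⟩
  obtain ⟨k, rfl⟩ : ∃ k, n = p * 2 + k := ⟨n - p * 2, by omega⟩
  obtain ⟨ζ, hζ⟩ := exists_zeta hF hp.out hpq
  have hζ1 : ζ ≠ 1 := by
    rintro rfl
    rw [orderOf_one] at hζ
    omega
  let e : Fin (p * 2 + k) ≃ (ZMod p × Fin 2) ⊕ Fin k :=
    finSumFinEquiv.symm.trans (Equiv.sumCongr (finProdFinEquiv.symm.trans
      (Equiv.prodCongr (ZMod.finEquiv p).toEquiv (Equiv.refl _))) (Equiv.refl _))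
  let P : Subgroup (Perm ((ZMod p × Fin 2) ⊕ Fin k)) := (PB p).map (ext1 _ _)
  have hP : IsPGroup p P := (isPGroup_PB p).map _
  let χ : zpowers ζ →* Fˣ := (zpowers ζ).subtype
  have hχ : ∀ c, χ c ^ (q + 1) = 1 := zeta_pow' hζ hpq
  let f : XX χ P →* PSU (p * 2 + k) F q := toPSU hF hχ P e
  have hodd : Odd p := hp.out.odd_of_ne_two h2
  have hX : IsPGroup p (XX χ P) := isPGroup_XX (zeta_pow hζ) hP
  let c : zpowers ζ := ⟨ζ, mem_zpowers ζ⟩
  let u : Fin 2 → (ZMod p × Fin 2) ⊕ Fin k → zpowers ζ := fun j =>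
    Pi.mulSingle (Sum.inl (0, j)) c * (Pi.mulSingle (Sum.inl (1, j)) c)⁻¹
  have hu : ∀ j, ∏ i, u j i = 1 := by
    intro j
    simp only [u, Pi.mul_apply, Pi.inv_apply, Finset.prod_mul_distrib, Finset.prod_inv_distrib]
    rw [Finset.prod_pi_mulSingle', Finset.prod_pi_mulSingle', if_pos (Finset.mem_univ _),
      if_pos (Finset.mem_univ _), mul_inv_cancel]
  let x : Fin 2 → XX χ P := fun j => ⟨SemidirectProduct.inl (u j), inl_mem (hu j)⟩
  let y : Fin 2 → XX χ P := fun j =>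
    ⟨SemidirectProduct.inr (ext1 _ _ (rotp p j)), inr_mem hodd hP (mem_map_of_mem _ (rotp_mem p j))⟩
  have hinv : ∀ j a b, (ext1 (ZMod p × Fin 2) (Fin k) (rotp p j))⁻¹ (Sum.inl (a, b)) =
      Sum.inl (a - (if b = j then 1 else 0), b) := fun j a b => rfl
  have hinv' : ∀ j i, (ext1 (ZMod p × Fin 2) (Fin k) (rotp p j))⁻¹ (Sum.inr i) = Sum.inr i := fun j i => rfl
  have huv : ∀ j (a : ZMod p) b, u j (Sum.inl (a, b)) = (if (a, b) = (0, j) then c else 1) *
      (if (a, b) = (1, j) then c else 1)⁻¹ := by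
    intro j a b
    simp only [u, Pi.mul_apply, Pi.inv_apply, Pi.mulSingle_apply, Sum.inl.injEq]
  have hur : ∀ j i, u j (Sum.inr i) = 1 := by
    intro j i
    simp [u, Pi.mulSingle_apply]
  have hyx : ∀ j k', (⁅y j, x k'⁆ : XX χ P).1 = SemidirectProduct.inl
      (fun i => u k' ((ext1 _ _ (rotp p j))⁻¹ i) * (u k' i)⁻¹) := fun j k' => comm_inr_inl _ (u k')
  have hne : ∀ j, f (⁅y j, x j⁆) ≠ 1 := by
    intro j h
    obtain ⟨a, ha⟩ := of_toPSU_eq_one hF hχ (by omega) h
    have hv : ∀ b, ((χ (u j ((ext1 _ _ (rotp p j))⁻¹ (Sum.inl (0, b))) * (u j (Sum.inl (0, b)))⁻¹) : Fˣ) : F)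
        = a := by
      intro b
      rw [← ha (Sum.inl (0, b)), hyx, monMat_inl, diagonal_apply_eq]
    have e1 := hv j
    have e2 := hv (j + 1)
    have hj : j + 1 ≠ j := by fin_cases j <;> decide
    have n1 : (-1 : ZMod p) ≠ 0 := by
      rw [neg_ne_zero]
      exact one_ne_zero
    have n2 : (-1 : ZMod p) ≠ 1 := by
      intro h
      have h3 : ((2 : ℕ) : ZMod p) = 0 := by
        push_cast
        linear_combination -h
      rw [ZMod.natCast_eq_zero_iff] at h3
      have := Nat.le_of_dvd (by norm_num) h3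
      omega
    have n0 : (0 : ZMod p) ≠ 1 := zero_ne_one
    rw [hinv] at e1 e2
    simp only [huv, Prod.mk.injEq, if_true, zero_sub, n1, n2, n0, hj, false_and, and_false, if_false, and_true,
      true_and, and_self, inv_one, mul_one, one_mul, map_one, Units.val_one, sub_zero] at e1 e2
    rw [← e2] at e1
    apply hζ1
    rw [Units.val_eq_one, map_inv, inv_eq_one] at e1
    exact e1
  have hxx : Commute (x 0) (x 1) := by
    apply Subtype.ext
    show (SemidirectProduct.inl (u 0) * SemidirectProduct.inl (u 1) : MonGp _ _) =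
      SemidirectProduct.inl (u 1) * SemidirectProduct.inl (u 0)
    rw [← map_mul, ← map_mul, mul_comm]
  have hyy : Commute (y 0) (y 1) := by
    apply Subtype.ext
    show (SemidirectProduct.inr (ext1 _ _ (rotp p 0)) * SemidirectProduct.inr (ext1 _ _ (rotp p 1)) : MonGp _ _) =
      SemidirectProduct.inr (ext1 _ _ (rotp p 1)) * SemidirectProduct.inr (ext1 _ _ (rotp p 0))
    rw [← map_mul, ← map_mul, ← map_mul, ← map_mul, (rotp_comm p).eq]
  have hyx' : ∀ j k', j ≠ k' → Commute (y j) (x k') := by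
    intro j k' hjk
    rw [← commutatorElement_eq_one_iff_commute]
    apply Subtype.ext
    rw [hyx]
    show SemidirectProduct.inl (fun i => u k' ((ext1 _ _ (rotp p j))⁻¹ i) * (u k' i)⁻¹) = (1 : MonGp _ _)
    have : (fun i => u k' ((ext1 _ _ (rotp p j))⁻¹ i) * (u k' i)⁻¹) = 1 := by
      funext i
      rcases i with ⟨a, b⟩ | i
      · rw [hinv]
        by_cases hb : b = k'
        · subst hb
          rw [if_neg (Ne.symm hjk), sub_zero, mul_inv_cancel]
          rfl
        · simp only [huv, Prod.mk.injEq, hb, and_false, if_false, inv_one, mul_one]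
          rfl
      · rw [hinv', hur]
        simp
    rw [this, map_one]
  have hn' : ∀ j, f (x j) * f (y j) ≠ f (y j) * f (x j) := by
    intro j h
    apply hne j
    rw [map_commutatorElement, commutatorElement_eq_one_iff_mul_comm]
    exact h.symm
  exact ⟨f.range, hX.of_surjective f.rangeRestrict f.rangeRestrict_surjective, f (x 0), ⟨_, rfl⟩, f (y 0), ⟨_, rfl⟩,
    f (x 1), ⟨_, rfl⟩, f (y 1), ⟨_, rfl⟩, hn' 0, hn' 1, hxx.map f, (hyx' 1 0 (by decide)).symm.map f,
    (hyx' 0 1 (by decide)).map f, hyy.map f⟩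

end Cfsg.Agent.H892.HT
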