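import Cfsg.Agent.H316.HT.Defs
import Cfsg.Agent.H769.CY.RThree
import Cfsg.Agent.H693.K6.RankThree

/-!
# S4933: rows by a rank 3 action (helper892)

`exists_mem_r3_val` : `H693.K6.exists_mem_r3` (helper693) with the values of the character.
`exists_aut` : `S` of rank 3 on `X`, the automorphisms permute the point stabilizers, eigenvalue `r ≡ k` modulo `p` of
multiplicity `f`.  For every group `A` of automorphisms of `S` (containing the inner ones) the principal block contains a
character of degree `f` not trivial on `S`.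
-/

set_option autoImplicit false
set_option linter.unusedSectionVars false

namespace Cfsg.Agent.H892.HT

open Cfsg Subgroup MulAction
open Cfsg.Agent.H816.IMEig Cfsg.Agent.H816.IMEig.Col Cfsg.Agent.Blocks.Fong
open Cfsg.Agent.H690.Spor.RankThree Cfsg.Agent.H690.Spor.RankThree.R3 Cfsg.Agent.H968.Imc
open Cfsg.Agent.Characters.Core Cfsg.Agent.H769.CY Cfsg.Agent.H316.HT Cfsg.Agent.H693.K6
open scoped BigOperators

universe u v w

section val

variable {G : Type v} [Group G] {X : Type w} [MulAction G X] {R : X → X → Prop} {k l : ℕ}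

/-- **A constituent of a rank three permutation character in the principal block.** -/
theorem exists_mem_r3_val [Finite G] (h : R3 G X R k l) [Fintype X] [DecidableEq X] [DecidableRel R] {a b : ℕ}
    (hab : ∀ x y, ∑ z, adj R x z * adj R z y =
      (k - b : ℂ) * dia x y + (a - b : ℂ) * adj R x y + b) {r s : ℤ} (hrs : r ≠ s) (h1 : r + s = a - b)
    (h2 : r * s = b - k) {f : ℕ} (hf : (f : ℤ) * (r - s) = -(s * (k + l) + k)) {p : ℕ}
    (hp1 : (p : ℤ) ∣ r - k) (hp2 : (p : ℤ) ∣ 1 + r + l) {M : Ideal AlgInt} (hM : IsPModular p M) :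
    ∃ χ : IrrCharacter G, χ ∈ principalBlock M G ∧ charDegree (χ : G → ℂ) = f ∧
      ∀ g, (χ : G → ℂ) g = ∑ x : X, ker R k (Nat.card X) (r : ℂ) (s : ℂ) x (g • x) := by
  classical
  have hp := hM.2.1.isPrime
  obtain ⟨χ, f', h3, h4, h5⟩ := exists_irr h hab hrs h1 h2
  have h3' := h3
  have hrs0 : r - s ≠ 0 := sub_ne_zero.2 hrs
  have hff : f' = f := by
    have h6 : (f' : ℤ) * (r - s) = f * (r - s) := by rw [h5, hf]
    exact_mod_cast mul_right_cancel₀ hrs0 h6
  subst hff
  have hdeg : charDegree (χ : G → ℂ) = f' := Blocks.Basic.charDegree_of_eq h4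
  have hf0 : f' ≠ 0 := by
    intro h0
    have h6 := Blocks.Basic.irr_one_ne_zero χ.2
    rw [h4, h0] at h6
    exact h6 (by simp)
  have hn := h.cardn
  have hpar := h.params_eq hab
  have hnC : (Nat.card X : ℂ) = 1 + k + l := by exact_mod_cast hn
  have hn0 : (Nat.card X : ℂ) ≠ 0 := by
    have : Nat.card X ≠ 0 := by omega
    exact_mod_cast this
  have hne : Nonempty X := by
    rw [← Finite.card_pos_iff]
    omega
  have hk0 : (k : ℂ) ≠ 0 := by exact_mod_cast h.k0.ne'
  have hl0 : (l : ℂ) ≠ 0 := by exact_mod_cast h.l0.ne'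
  have hrsC : (r : ℂ) - s ≠ 0 := by exact_mod_cast hrs0
  have h1C : (r : ℂ) + s = a - b := by exact_mod_cast h1
  have h2C : (r : ℂ) * s = b - k := by exact_mod_cast h2
  have hpC : (k : ℂ) * k = k + k * a + l * b := by exact_mod_cast hpar
  have hfC : (f' : ℂ) * (r - s) = -(s * (k + l) + k) := by exact_mod_cast hf
  -- the value of the kernel
  set A : ℂ := (f' : ℂ) / (Nat.card X : ℂ) with hA
  have hA0 : A ≠ 0 := div_ne_zero (by exact_mod_cast hf0) hn0
  have hAn : A * Nat.card X = f' := by rw [hA]; field_simp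
  set om : Fin 3 → ℂ := ![1, (r : ℂ) / k, -(1 + r) / l] with hom
  have o0 : om 0 = 1 := rfl
  have o1 : om 1 = (r : ℂ) / k := rfl
  have o2 : om 2 = -(1 + (r : ℂ)) / l := rfl
  have hker : ∀ x y, ker R k (Nat.card X) (r : ℂ) (s : ℂ) x y = A * om (col R x y) := by
    intro x y
    have hmul : ∀ z w : ℂ, z * (Nat.card X * (r - s)) = w * (Nat.card X * (r - s)) → z = w := fun z w hzw =>
      mul_right_cancel₀ (mul_ne_zero hn0 hrsC) hzw
    apply hmul
    have e1 : A * om (col R x y) * (Nat.card X * (r - s)) = -(s * (k + l) + k) * om (col R x y) := by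
      rw [← hfC, ← hAn]
      ring
    have e2 : ker R k (Nat.card X) (r : ℂ) (s : ℂ) x y * (Nat.card X * (r - s)) =
        (adj R x y - s * dia x y) * Nat.card X - (k - s) := by
      unfold ker
      field_simp
    rw [e1, e2, hnC]
    by_cases hxy : x = y
    · subst hxy
      have e3 : col R x x = 0 := col_zero.2 rfl
      have e4 : adj R x x = 0 := by unfold adj; rw [if_neg (h.irr x)]
      have e5 : dia x x = 1 := by unfold dia; rw [if_pos rfl]
      rw [e3, e4, e5, o0]
      ring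
    · have e5 : dia x y = 0 := by unfold dia; rw [if_neg hxy]
      by_cases hR : R x y
      · have e3 : col R x y = 1 := (col_one h).2 hR
        have e4 : adj R x y = 1 := by unfold adj; rw [if_pos hR]
        rw [e3, e4, e5, o1]
        rw [← mul_right_inj' hk0]
        have e6 : (k : ℂ) * (-(s * (k + l) + k) * ((r : ℂ) / k)) = -(s * (k + l) + k) * r := by field_simp
        rw [e6]
        linear_combination ((k : ℂ) + l) * h2C + (k : ℂ) * h1C - hpC
      · have e3 : col R x y = 2 := (col_two h).2 ⟨hxy, hR⟩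
        have e4 : adj R x y = 0 := by unfold adj; rw [if_neg hR]
        rw [e3, e4, e5, o2]
        rw [← mul_right_inj' hl0]
        have e6 : (l : ℂ) * (-(s * (k + l) + k) * (-(1 + (r : ℂ)) / l)) = (s * (k + l) + k) * (1 + r) := by
          field_simp
        rw [e6]
        linear_combination (-((k : ℂ) + l)) * h2C - (k : ℂ) * h1C + hpC
  refine ⟨χ, H582.Sph.mem_principal_of_sph hM (isCol_r3 h) χ (a := A) (ω := om) hA0 rfl ?_ ?_, hdeg, h3'⟩
  · intro g
    rw [h3 g, Finset.mul_sum]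
    exact Finset.sum_congr rfl fun x _ => hker x (g • x)
  · intro x u
    obtain ⟨m1, hm1⟩ := hp1
    obtain ⟨m2, hm2⟩ := hp2
    have hint : ∀ m : ℤ, MemLocalIdeal M ((p : ℂ) * (m : ℂ)) := fun m => by
      refine lideal_mul_right hp (H582.Sph.lideal_prime hM) ?_
      simpa using lring_coe hp (m : AlgInt)
    have h3 : u = 0 ∨ u = 1 ∨ u = 2 := by revert u; decide
    rcases h3 with rfl | rfl | rfl
    · rw [kk_zero]
      have : ((1 : ℕ) : ℂ) * om 0 - ((1 : ℕ) : ℂ) = (p : ℂ) * ((0 : ℤ) : ℂ) := by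
        show ((1 : ℕ) : ℂ) * 1 - ((1 : ℕ) : ℂ) = _
        push_cast
        ring
      rw [this]
      exact hint 0
    · rw [kk_one h]
      have : (k : ℂ) * om 1 - k = (p : ℂ) * (m1 : ℂ) := by
        show (k : ℂ) * ((r : ℂ) / k) - k = _
        have h7 : (r : ℂ) - k = p * m1 := by exact_mod_cast hm1
        rw [← h7]
        field_simp
      rw [this]
      exact hint m1
    · rw [kk_two h]
      have : (l : ℂ) * om 2 - l = (p : ℂ) * ((-m2 : ℤ) : ℂ) := by
        show (l : ℂ) * (-(1 + (r : ℂ)) / l) - l = _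
        have h7 : 1 + (r : ℂ) + l = p * m2 := by exact_mod_cast hm2
        push_cast
        have h8 : (l : ℂ) * (-(1 + (r : ℂ)) / l) = -(1 + (r : ℂ)) := by field_simp
        rw [h8]
        linear_combination -h7
      rw [this]
      exact hint (-m2)


end val

section aut

variable {S : Type u} [Group S] {X : Type v} [MulAction S X] {R : X → X → Prop} {k l : ℕ}

/-- the character of the group of automorphisms -/
theorem exists_aut {p : ℕ} [hp : Fact p.Prime] [Finite S] (h : R3 S X R k l) (hkl : k ≠ l)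
    (hinj : ∀ x y : X, stabilizer S x = stabilizer S y → x = y) {a b : ℕ}
    (ha : ∀ x y, R x y → com R x y = a) (hb : ∀ x y, x ≠ y → ¬ R x y → com R x y = b)
    {r s : ℤ} (hrs : r ≠ s) (h1 : r + s = a - b) (h2 : r * s = b - k) {f : ℕ}
    (hf : (f : ℤ) * (r - s) = -(s * (k + l) + k)) (hf1 : f ≠ 1) (hp1 : (p : ℤ) ∣ r - k) (hp2 : (p : ℤ) ∣ 1 + r + l)
    (A : Subgroup (MulAut S)) (hA : ∀ s : S, MulAut.conj s ∈ A)
    (hst : ∀ α ∈ A, ∀ x : X, ∃ y : X, (stabilizer S x).map (MulEquiv.toMonoidHom α) = stabilizer S y)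
    (M : Ideal AlgInt) (hM : IsPModular p M) : ∃ χ : IrrCharacter A, χ ∈ principalBlock M A ∧
      charDegree (χ : A → ℂ) = f ∧ ∃ s : S, (χ : A → ℂ) ⟨MulAut.conj s, hA s⟩ ≠ (χ : A → ℂ) 1 := by
  classical
  have _ : Finite X := finite_X h
  have _ := Fintype.ofFinite X
  let _ : MulAction A X := act A hinj hst
  have hc : ∀ (α : A) (g : S) (x : X), α • (g • x) = (α : MulAut S) g • (α • x) := act_smul A hinj hst
  have hcj : ∀ (s : S) (x : X), (⟨MulAut.conj s, hA s⟩ : A) • x = s • x := act_conj A hinj hst hA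
  have hB := r3_big hA hc hcj h hkl
  obtain ⟨χ, hχ, d', v'⟩ := exists_mem_r3_val hB (hab_of hB ha hb) hrs h1 h2 hf hp1 hp2 hM
  obtain ⟨θ₀, g, v2, z2, d2, g1⟩ := exists_irr_int h (hab_of h ha hb) hrs h1 h2
  refine ⟨χ, hχ, d', ?_⟩
  by_contra hcon
  push Not at hcon
  have hgf : g = f := by
    have h6 : (g : ℤ) * (r - s) = f * (r - s) := by rw [g1, hf]
    exact_mod_cast mul_right_cancel₀ (sub_ne_zero.2 hrs) h6
  subst hgf
  have e1 : ∀ t : S, (θ₀ : S → ℂ) t = (θ₀ : S → ℂ) 1 := by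
    intro t
    have e2 : ∀ t : S, (χ : A → ℂ) ⟨MulAut.conj t, hA t⟩ = (θ₀ : S → ℂ) t := by
      intro t
      rw [v2, v']
      exact Finset.sum_congr rfl fun x _ => by rw [hcj]
    have e3 := e2 1
    have e4 : (⟨MulAut.conj (1 : S), hA 1⟩ : A) = 1 := Subtype.ext (map_one _)
    rw [e4] at e3
    rw [← e2 t, hcon t, e3]
  apply hf1
  have := Fintype.ofFinite S
  have h3 := classInner_irr_self (G := S) θ₀.2
  rw [classInner_def] at h3
  have h4 := Cfsg.Agent.Blocks.Basic.irr_one_eq_charDegree θ₀.2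
  rw [d2] at h4
  have h5 : ∑ t : S, (θ₀ : S → ℂ) t * (starRingEnd ℂ) ((θ₀ : S → ℂ) t) = Nat.card S * ((g : ℂ) * g) := by
    rw [Finset.sum_congr rfl fun t _ => by rw [e1 t, h4, map_natCast], Finset.sum_const, Finset.card_univ, nsmul_eq_mul,
      Nat.card_eq_fintype_card]
  rw [h5, inv_mul_cancel_left₀ (by exact_mod_cast Nat.card_pos.ne')] at h3
  have h6 : g * g = 1 := by exact_mod_cast h3
  exact Nat.eq_one_of_mul_eq_one_left h6

/-- the character of an almost simple group -/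
theorem exists_of_r3 {p : ℕ} [hp : Fact p.Prime] [Finite S] (h : R3 S X R k l) (hkl : k ≠ l)
    (hinj : ∀ x y : X, stabilizer S x = stabilizer S y → x = y) {a b : ℕ}
    (ha : ∀ x y, R x y → com R x y = a) (hb : ∀ x y, x ≠ y → ¬ R x y → com R x y = b)
    {r s : ℤ} (hrs : r ≠ s) (h1 : r + s = a - b) (h2 : r * s = b - k) {f : ℕ}
    (hf : (f : ℤ) * (r - s) = -(s * (k + l) + k)) (hf1 : f ≠ 1) (hp1 : (p : ℤ) ∣ r - k) (hp2 : (p : ℤ) ∣ 1 + r + l)
    (hst : ∀ (α : MulAut S) (x : X), ∃ y : X, (stabilizer S x).map (MulEquiv.toMonoidHom α) = stabilizer S y)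
    {A : Type w} [Group A] [Finite A] (N : Subgroup A) [N.Normal] (e : N ≃* S) (hC : centralizer (N : Set A) = ⊥)
    (M : Ideal AlgInt) (hM : IsPModular p M) : ∃ χ : IrrCharacter A, χ ∈ principalBlock M A ∧
      charDegree (χ : A → ℂ) = f ∧ ∃ n ∈ N, (χ : A → ℂ) n ≠ (χ : A → ℂ) 1 := by
  classical
  obtain ⟨φ, hφ⟩ : ∃ φ : A →* MulAut S, φ = (MulAut.congr e).toMonoidHom.comp MulAut.conjNormal := ⟨_, rfl⟩
  have hφa : ∀ (a : A) (n : N), φ a (e n) = e (MulAut.conjNormal a n) := by
    intro a n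
    rw [hφ]
    show e (MulAut.conjNormal a (e.symm (e n))) = _
    rw [e.symm_apply_apply]
  have hinjφ : Function.Injective φ := by
    rw [injective_iff_map_eq_one]
    intro a ha1
    have h3 : a ∈ centralizer (N : Set A) := by
      rw [mem_centralizer_iff]
      intro n hn
      have h4 := hφa a ⟨n, hn⟩
      rw [ha1] at h4
      have h5 : (⟨n, hn⟩ : N) = MulAut.conjNormal a ⟨n, hn⟩ := e.injective h4
      have h6 := congrArg Subtype.val h5
      rw [MulAut.conjNormal_apply] at h6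
      have h7 : n = a * n * a⁻¹ := h6
      -- `n * a = a * n`
      nth_rewrite 1 [h7]
      group
    rw [hC] at h3
    exact mem_bot.1 h3
  have hconj : ∀ n : N, φ n = MulAut.conj (e n) := by
    intro n
    ext s
    obtain ⟨m, rfl⟩ := e.surjective s
    rw [hφa, MulAut.conj_apply, MulAut.conjNormal_val, MulAut.conj_apply, map_mul, map_mul, map_inv]
  have hA : ∀ s : S, MulAut.conj s ∈ φ.range := by
    intro s
    obtain ⟨n, rfl⟩ := e.surjective s
    exact ⟨n, hconj n⟩
  obtain ⟨χ, hχ, hd, s, hs⟩ := exists_aut h hkl hinj ha hb hrs h1 h2 hf hf1 hp1 hp2 φ.range hA (fun α _ => hst α) M hM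
  let e' : A ≃* φ.range := MonoidHom.ofInjective hinjφ
  refine ⟨_, H684.BlockTools.infl_mem hM e'.toMonoidHom e'.surjective hχ, ?_, ?_⟩
  · rw [← hd]
    show charDegree ((χ : φ.range → ℂ) ∘ e') = _
    rw [Blocks.Basic.charDegree_def, Blocks.Basic.charDegree_def, Function.comp_apply, map_one]
  · obtain ⟨n, rfl⟩ := e.surjective s
    refine ⟨n, n.2, ?_⟩
    show (χ : φ.range → ℂ) (e' n) ≠ (χ : φ.range → ℂ) (e' 1)
    rw [map_one]
    have e1 : e' n = ⟨MulAut.conj (e n), hA (e n)⟩ := Subtype.ext (hconj n)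
    rw [e1]
    exact hs

/-- **the row of a rank 3 action** -/
theorem row_of_r3 {p : ℕ} [hp : Fact p.Prime] [Finite S] (h : R3 S X R k l) (hkl : k ≠ l)
    (hinj : ∀ x y : X, stabilizer S x = stabilizer S y → x = y) {a b : ℕ}
    (ha : ∀ x y, R x y → com R x y = a) (hb : ∀ x y, x ≠ y → ¬ R x y → com R x y = b)
    {r s : ℤ} (hrs : r ≠ s) (h1 : r + s = a - b) (h2 : r * s = b - k) {f : ℕ}
    (hf : (f : ℤ) * (r - s) = -(s * (k + l) + k)) (hp1 : (p : ℤ) ∣ r - k) (hp2 : (p : ℤ) ∣ 1 + r + l)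
    (hst : ∀ (α : MulAut S) (x : X), ∃ y : X, (stabilizer S x).map (MulEquiv.toMonoidHom α) = stabilizer S y)
    (hpf : p ∣ f) (hf0 : f ≠ 0)
    (hle : ∀ {A : Type} [Group A] [Finite A] (N : Subgroup A) [N.Normal] (_ : N ≃* S) (P : Sylow p A) (a : ℕ), 0 < a →
      CD p a (P : Subgroup A) → f.factorization p ≤ a) : Row p S := by
  intro A _ _ N _ ⟨e⟩ hC M hM P a ha0 hcd
  obtain ⟨χ, hχ, hd, hn⟩ := exists_of_r3 h hkl hinj ha hb hrs h1 h2 hf
    (fun h1 => hp.out.one_lt.ne' (Nat.dvd_one.1 (h1 ▸ hpf))) hp1 hp2 hst N e hC M hM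
  refine ⟨χ, hχ, hn, ?_, ?_⟩
  · unfold vd
    rw [hd]
    exact Nat.pos_of_ne_zero fun h0 => by
      rw [Nat.factorization_eq_zero_iff] at h0
      rcases h0 with h0 | h0 | h0
      · exact h0 hp.out
      · exact h0 hpf
      · exact hf0 h0
  · unfold vd
    rw [hd]
    exact hle N e P a ha0 hcd

end aut

end Cfsg.Agent.H892.HT
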